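import Groth.Agent.JetNef.Section
import Groth.Agent.Big.NumEq
import Groth.Agent.Nakai.KleimanDeg
import Groth.Agent.SurfRR.Divisors
import Groth.Agent.SurfRR.Effective
import Groth.Agent.Lib.CurveDeg
import Groth.Agent.Nakai.Kleiman
import Groth.Agent.S18840
import Groth.Agent.PicClLib.Basic

/-!
# Jets of adjoint multiples bound the exceptional degree
-/

set_option autoImplicit false
set_option linter.style.haveILetI false
set_option linter.unusedSectionVars false
set_option backward.isDefEq.respectTransparency false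
set_option backward.isDefEq.respectTransparency.types false
set_option maxHeartbeats 800000

universe u

open CategoryTheory CategoryTheory.Limits AlgebraicGeometry TopologicalSpace Opposite
open Groth.Agent.AModX Groth.Agent.InvX Groth.Agent.H23.PicMul

noncomputable section

namespace Groth.Agent.JetNef

open Groth.Agent

variable (k : Type u) [Field k] {X Y C : Scheme.{u}}

section Degree

variable [Y.Over (Spec (CommRingCat.of k))] [IsProper (Y ↘ Spec (CommRingCat.of k))]
  (ι : C ⟶ Y) [IsClosedImmersion ι] (hdim : topologicalKrullDim C = 1)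

include hdim in
theorem cdeg_structure : Big.cdeg k ι (Coh.structureModule Y) = 0 := by
  have hO : PicF.IsInvertible (Coh.structureModule Y) := PicLoc.isInvertible_structureModule Y
  have h := Big.cdeg_add k ι (hdim.trans Nat.cast_one.symm).le hO hO
  rw [Big.cdeg_congr k ι (L' := Coh.structureModule Y)
    (show PicF.cl (CohB1.tensorMod (Coh.structureModule Y) (Coh.structureModule Y)) = PicF.cl (Coh.structureModule Y)
      from by rw [cl_tensor, ← one_def, one_mul])] at h
  linarith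

include hdim in
theorem cdeg_tensorPow {A : Y.Modules} (hA : PicF.IsInvertible A) : ∀ n : ℕ,
    Big.cdeg k ι (CohB1.tensorPow A n) = (n : ℚ) * Big.cdeg k ι A
  | 0 => by
    rw [Nat.cast_zero, zero_mul]
    exact cdeg_structure k ι hdim
  | n + 1 => by
    show Big.cdeg k ι (CohB1.tensorMod (CohB1.tensorPow A n) A) = _
    rw [Big.cdeg_add k ι (hdim.trans Nat.cast_one.symm).le (InvX.isInvertible_tensorPow hA n) hA,
      cdeg_tensorPow hA n]
    push_cast
    ring

include hdim in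
/-- A section nonzero at a point of the curve gives a nonnegative degree. -/
theorem cdeg_nonneg_of_mem_genLocus [IsIntegral C] {M : Y.Modules} (hM : PicF.IsInvertible M)
    (t : Coh.structureModule Y ⟶ M) (c : C) (hc : ι c ∈ CohB1.genLocus M t) : 0 ≤ Big.cdeg k ι M := by
  letI : C.Over (Spec (CommRingCat.of k)) := ⟨ι ≫ (Y ↘ Spec (CommRingCat.of k))⟩
  haveI : IsProper (C ↘ Spec (CommRingCat.of k)) :=
    inferInstanceAs (IsProper (ι ≫ (Y ↘ Spec (CommRingCat.of k))))
  obtain ⟨e⟩ := PicClLib.nonempty_pullback_structureModule ι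
  have hg := InvX.genLocus_pullback ι hM t e.symm
  have hMC := PicClLib.isInvertible_pullback ι hM
  have hne : e.symm.hom ≫ (Scheme.Modules.pullback ι).map t ≠ 0 := Nakai.ne_zero_of_mem_genLocus (hg.ge hc)
  have h := (CurveDeg.deg_le_and_isIso k hdim.le (PicLoc.isInvertible_structureModule C) hMC _ hne).1
  rw [CurveDeg.deg_structureModule] at h
  rw [← Big.curveDeg_eq k ι (hdim.trans Nat.cast_one.symm).le hM, Nakai.curveDeg_eq_deg k _ hdim hMC]
  exact_mod_cast h

include hdim in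
theorem cdeg_idealMod_disjoint [IsIntegral C] {E : Y.IdealSheafData} (hE : BlowUp.IsEffCartierIdeal E)
    (hd : ∀ c : C, ι c ∉ E.support) : Big.cdeg k ι (ClSub.idealMod E) = 0 := by
  have hs : ((E.comap ι).support : Set C) = ∅ := by
    rw [Scheme.IdealSheafData.support_comap]
    exact Set.eq_empty_of_forall_notMem fun c hc => hd c hc
  have hc' : BlowUp.IsEffCartierIdeal (E.comap ι) := fun c => by
    obtain ⟨_, ⟨U, hU, rfl⟩, hcU, -⟩ := C.isBasis_affineOpens.exists_subset_of_mem_open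
      (Set.mem_univ c) isOpen_univ
    refine ⟨⟨U, hU⟩, hcU, 1, one_mem _, ?_⟩
    rw [FlatStrat.ideal_eq_top_of_disjoint _ _ (fun z _ hz => (Set.eq_empty_iff_forall_notMem.1 hs z) hz),
      Ideal.span_singleton_one]
  letI : C.Over (Spec (CommRingCat.of k)) := ⟨ι ≫ (Y ↘ Spec (CommRingCat.of k))⟩
  haveI : IsProper (C ↘ Spec (CommRingCat.of k)) :=
    inferInstanceAs (IsProper (ι ≫ (Y ↘ Spec (CommRingCat.of k))))
  have hcl : PicF.cl ((Scheme.Modules.pullback ι).obj (ClSub.idealMod E)) = PicF.cl (Coh.structureModule C) :=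
    (Big.cl_idealMod_comap (f := ι) (I := E) hE hc').trans (SurfRR.cl_idealMod_of_support_empty hs)
  obtain ⟨φ⟩ := cl_eq_iff.1 hcl
  have hMC := PicClLib.isInvertible_pullback ι (Big.isInvertible_ideal hE)
  rw [← Big.curveDeg_eq k ι (hdim.trans Nat.cast_one.symm).le (Big.isInvertible_ideal hE),
    Nakai.curveDeg_eq_deg k _ hdim hMC]
  show ((Curv2.deg k C _ 1 : ℤ) : ℚ) = 0
  rw [CurveRR.deg_congr k φ 1, CurveDeg.deg_structureModule, Int.cast_zero]

end Degree

/-- A linear estimate for all large `r` gives the limiting inequality. -/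
theorem limit_ineq {a w e ε : ℝ} (hε : 0 < ε) (ha : 0 ≤ a) {s₀ : ℕ}
    (h : ∀ s : ℕ, s₀ ≤ s → ∀ r : ℕ, (s : ℝ) + 2 < (r : ℝ) * ε → 0 ≤ (r : ℝ) * a + w + (s : ℝ) * e) :
    0 ≤ a + ε * e := by
  rcases le_or_gt 0 e with he | he
  · positivity
  by_contra hneg
  rw [not_le] at hneg
  obtain ⟨r, hr⟩ := exists_nat_gt (max (((s₀ : ℝ) + 4) / ε) ((|w| + 4 * |e| + 1) / (-(a + ε * e))))
  have hr1 : ((s₀ : ℝ) + 4) < (r : ℝ) * ε := (div_lt_iff₀ hε).1 ((le_max_left _ _).trans_lt hr)
  have hr2 : |w| + 4 * |e| + 1 < (r : ℝ) * (-(a + ε * e)) :=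
    (div_lt_iff₀ (by linarith)).1 ((le_max_right _ _).trans_lt hr)
  let s := ⌊(r : ℝ) * ε - 3⌋₊
  have hs0 : s₀ ≤ s := Nat.le_floor (by linarith)
  have hnn : (0 : ℝ) ≤ (r : ℝ) * ε - 3 := by
    have : (0 : ℝ) ≤ (s₀ : ℝ) := Nat.cast_nonneg _
    linarith
  have hs1 : (s : ℝ) ≤ (r : ℝ) * ε - 3 := Nat.floor_le hnn
  have hs2 : (r : ℝ) * ε - 3 < (s : ℝ) + 1 := Nat.lt_floor_add_one _
  have h1 := h s hs0 r (by linarith)
  have h2 : (s : ℝ) * e ≤ ((r : ℝ) * ε - 4) * e := mul_le_mul_of_nonpos_right (by linarith) he.le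
  have h3 : ((r : ℝ) * ε - 4) * e = (r : ℝ) * (ε * e) - 4 * e := by ring
  have h4 : (r : ℝ) * (-(a + ε * e)) = -((r : ℝ) * a) - (r : ℝ) * (ε * e) := by ring
  have h5 : |e| = -e := abs_of_neg he
  have h6 := le_abs_self w
  linarith

theorem isEffCartier_pow {E : Y.IdealSheafData} (hE : BlowUp.IsEffCartierIdeal E) :
    ∀ n : ℕ, BlowUp.IsEffCartierIdeal (E ^ n)
  | 0 => by rw [pow_zero]; exact BlowUpLib.isEffCartier_top Y
  | n + 1 => by rw [pow_succ]; exact ModPairLib.isEffCartier_mul (isEffCartier_pow hE n) hE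

theorem cdeg_idealMod_pow [Y.Over (Spec (CommRingCat.of k))] [IsProper (Y ↘ Spec (CommRingCat.of k))]
    (ι : C ⟶ Y) [IsClosedImmersion ι] (hdim : topologicalKrullDim C = 1) {E : Y.IdealSheafData}
    (hE : BlowUp.IsEffCartierIdeal E) : ∀ n : ℕ,
    Big.cdeg k ι (ClSub.idealMod (E ^ n)) = (n : ℚ) * Big.cdeg k ι (ClSub.idealMod E)
  | 0 => by
    rw [Nat.cast_zero, zero_mul, pow_zero, Big.cdeg_congr k ι (L' := Coh.structureModule Y)
      (SurfRR.cl_idealMod_of_support_empty (D := (1 : Y.IdealSheafData)) rfl)]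
    exact cdeg_structure k ι hdim
  | n + 1 => by
    rw [pow_succ, Big.cdeg_congr k ι (L' := CohB1.tensorMod (ClSub.idealMod (E ^ n)) (ClSub.idealMod E))
      (SurfRR.cl_idealMod_mul (isEffCartier_pow hE n) hE),
      Big.cdeg_add k ι (hdim.trans Nat.cast_one.symm).le (Big.isInvertible_ideal (isEffCartier_pow hE n))
        (Big.isInvertible_ideal hE), cdeg_idealMod_pow ι hdim hE n]
    push_cast
    ring

/-- The key inequality: jets at the centre bound the degree on a curve through the exceptional locus. -/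
theorem cdeg_ineq [Y.Over (Spec (CommRingCat.of k))] [IsProper (Y ↘ Spec (CommRingCat.of k))]
    [IsLocallyNoetherian X] [IsLocallyNoetherian Y] (f : Y ⟶ X) {x : X} (hx : IsClosed ({x} : Set X))
    (hE : BlowUp.IsEffCartierIdeal ((W4c2seshadripos.pointIdeal x hx).comap f)) {L : X.Modules}
    (hL : PicF.IsInvertible L) (s : ℕ) (hsep : W4c2seshadripos.SeparatesJets L x hx s)
    (ι : C ⟶ Y) [IsClosedImmersion ι] [IsIntegral C] (hdim : topologicalKrullDim C = 1) (c : C)
    (hc : f (ι c) = x) :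
    0 ≤ Big.cdeg k ι ((Scheme.Modules.pullback f).obj L) +
      (s : ℚ) * Big.cdeg k ι (ClSub.idealMod ((W4c2seshadripos.pointIdeal x hx).comap f)) := by
  let I := W4c2seshadripos.pointIdeal x hx
  let E := I.comap f
  let P := (Scheme.Modules.pullback f).obj L
  have hP : PicF.IsInvertible P := PicClLib.isInvertible_pullback f hL
  obtain ⟨V, l, -, hxV, hl⟩ := PowReg.exists_affine_frame hL ⊤ (Opens.mem_top x)
  obtain ⟨W₀, e₀, hqW₀, ξ, hξ, hξgen⟩ := ModPairLib.exists_chart_blowUp (C := I) hE (ι c) V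
    (show f (ι c) ∈ V.1 by rw [hc]; exact hxV)
  obtain ⟨σ, a, ha, hab⟩ := exists_section_jet hx s hsep V hxV hl (ξ ^ s)
  let T : Γ(P, ⊤) := pullElt f σ
  have hT : ∀ (W : Y.affineOpens) (e : W.1 ≤ f ⁻¹ᵁ V.1),
      res P (le_top : W.1 ≤ ⊤) T = (f.appLE V.1 W.1 e).hom a • res P e (pullElt f l) := fun W e => by
    have h := congrArg (res P e) ((res_pullElt f (le_top : V.1 ≤ ⊤) σ).trans
      ((congrArg (pullElt f) ha).trans (pullElt_smul f a l)))
    rw [res_res, res_smul] at h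
    exact h
  have hpow : ∀ (W : Y.affineOpens) (e : W.1 ≤ f ⁻¹ᵁ V.1) (n : ℕ) (z : Γ(X, V.1)), z ∈ (I ^ n).ideal V →
      (f.appLE V.1 W.1 e).hom z ∈ (E ^ n).ideal W := fun W e n z hz => by
    rw [Scheme.IdealSheafData.ideal_pow, Pi.pow_apply] at hz ⊢
    rw [ModPairLib.ideal_comap I f V W e, ← Ideal.map_pow]
    exact Ideal.mem_map_of_mem _ hz
  have hle : (I ^ (s + 1)).ideal V ≤ (I ^ s).ideal V := by
    rw [Scheme.IdealSheafData.ideal_pow, Scheme.IdealSheafData.ideal_pow, Pi.pow_apply, Pi.pow_apply]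
    exact Ideal.pow_le_pow_right (Nat.le_succ s)
  have haI : a ∈ (I ^ s).ideal V := by
    have h1 : ξ ^ s ∈ (I ^ s).ideal V := by
      rw [Scheme.IdealSheafData.ideal_pow, Pi.pow_apply]; exact Ideal.pow_mem_pow hξ s
    simpa using add_mem (hle hab) h1
  obtain ⟨τ, hτ⟩ := exists_lift (E ^ s) hP T fun y => by
    by_cases hy : f y ∈ V.1
    · obtain ⟨_, ⟨W, hW, rfl⟩, hyW, hWV⟩ := Y.isBasis_affineOpens.exists_subset_of_mem_open
        (show y ∈ f ⁻¹ᵁ V.1 from hy) (f ⁻¹ᵁ V.1).2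
      exact ⟨⟨W, hW⟩, _, hyW, (isFrame_pullElt f hl).res hWV, _, hpow ⟨W, hW⟩ hWV s a haI, hT ⟨W, hW⟩ hWV⟩
    · have hsub : (E.support : Set Y) ⊆ (f ⁻¹ᵁ V.1 : Set Y) := fun z hz => by
        rw [Scheme.IdealSheafData.support_comap] at hz
        have hz' : f z ∈ ((I.support : Closeds X) : Set X) := hz
        rw [support_pointIdeal x hx, Set.mem_singleton_iff] at hz'
        show f z ∈ V.1
        rw [hz']; exact hxV
      let O : Y.Opens := ⟨(E.support : Set Y)ᶜ, E.support.isClosed.isOpen_compl⟩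
      obtain ⟨W, e, hWO, hyW, he⟩ := PowReg.exists_affine_frame hP O (show y ∈ O from fun h => hy (hsub h))
      obtain ⟨b, hb⟩ := he.exists_coord le_rfl (res P (le_top : W.1 ≤ ⊤) T)
      rw [res_self] at hb
      refine ⟨W, e, hyW, he, b, ?_, hb⟩
      rw [Scheme.IdealSheafData.ideal_pow, Pi.pow_apply,
        FlatStrat.ideal_eq_top_of_disjoint E W (fun z hz hz' => hWO hz hz'), Ideal.top_pow]
      trivial
  let g := (f.appLE V.1 W₀.1 e₀).hom ξ
  have hEs : (E ^ s).ideal W₀ = Ideal.span {g ^ s} := by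
    rw [Scheme.IdealSheafData.ideal_pow, Pi.pow_apply, hξgen, Ideal.span_singleton_pow]
  obtain ⟨d, hd⟩ : ∃ d, (f.appLE V.1 W₀.1 e₀).hom (a - ξ ^ s) = d * g ^ (s + 1) := by
    have h1 := hpow W₀ e₀ (s + 1) _ hab
    rw [Scheme.IdealSheafData.ideal_pow, Pi.pow_apply, hξgen, Ideal.span_singleton_pow] at h1
    obtain ⟨d, hd⟩ := Ideal.mem_span_singleton'.1 h1
    exact ⟨d, hd.symm⟩
  have hfa : (f.appLE V.1 W₀.1 e₀).hom a = g ^ s * (1 + d * g) := by
    rw [map_sub, map_pow] at hd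
    linear_combination hd
  have hqE : ι c ∉ Y.basicOpen g := fun h => by
    have h1 : ι c ∈ E.support := by
      rw [← SetLike.mem_coe, Scheme.IdealSheafData.support_comap]
      show f (ι c) ∈ ((I.support : Closeds X) : Set X)
      rw [support_pointIdeal x hx, hc]
      rfl
    rw [Scheme.IdealSheafData.mem_support_iff_of_mem hqW₀, Scheme.mem_zeroLocus_iff] at h1
    exact h1 g (show g ∈ E.ideal W₀ by rw [hξgen]; exact Ideal.mem_span_singleton_self g) h
  have hu : ι c ∈ Y.basicOpen (1 + d * g) := by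
    rw [Y.mem_basicOpen _ _ hqW₀]
    rw [Y.mem_basicOpen _ _ hqW₀, ← mem_nonunits_iff, ← IsLocalRing.mem_maximalIdeal] at hqE
    by_contra hu
    rw [← mem_nonunits_iff, ← IsLocalRing.mem_maximalIdeal, map_add, map_one, map_mul] at hu
    exact (IsLocalRing.maximalIdeal.isMaximal _).ne_top ((Ideal.eq_top_iff_one _).2
      ((Ideal.add_mem_iff_left _ (Ideal.mul_mem_left _ _ hqE)).1 hu))
  have hgen := mem_genLocus_lift (E ^ s) hP (isEffCartier_pow hE s) τ W₀
    ((isFrame_pullElt f hl).res e₀) hEs (u := 1 + d * g) (by rw [hτ, ← hfa]; exact hT W₀ e₀) hu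
  have hJ := Big.isInvertible_ideal (isEffCartier_pow hE s)
  have h := cdeg_nonneg_of_mem_genLocus k ι hdim (InvX.isInvertible_tensorMod hJ hP) _ c hgen
  rw [Big.cdeg_add k ι (hdim.trans Nat.cast_one.symm).le hJ hP, cdeg_idealMod_pow k ι hdim hE] at h
  linarith

/-- Ample adjoint multiples separating jets make `f^*A - ε E` nef. -/
theorem cdeg_add_mul_nonneg [X.Over (Spec (CommRingCat.of k))] [IsProper (X ↘ Spec (CommRingCat.of k))]
    [Y.Over (Spec (CommRingCat.of k))] [IsProper (Y ↘ Spec (CommRingCat.of k))]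
    (f : Y ⟶ X) (hf : f ≫ (X ↘ Spec (CommRingCat.of k)) = Y ↘ Spec (CommRingCat.of k))
    {x : X} (hx : IsClosed ({x} : Set X))
    (hE : BlowUp.IsEffCartierIdeal ((W4c2seshadripos.pointIdeal x hx).comap f)) {A ω : X.Modules}
    (hA : CohB1.IsAmple A) (hω : PicF.IsInvertible ω) {ε : ℝ} (hε : 0 < ε) {s₀ : ℕ}
    (hjets : ∀ s : ℕ, s₀ ≤ s → ∀ r : ℕ, ((s : ℝ) + 2) < (r : ℝ) * ε →
      W4c2seshadripos.SeparatesJets (CohB1.tensorMod (CohB1.tensorPow A r) ω) x hx s)
    (ι : C ⟶ Y) [IsClosedImmersion ι] [IsIntegral C] (hdim : topologicalKrullDim C = 1) :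
    0 ≤ (Big.cdeg k ι ((Scheme.Modules.pullback f).obj A) : ℝ) +
      ε * (Big.cdeg k ι (ClSub.idealMod ((W4c2seshadripos.pointIdeal x hx).comap f)) : ℝ) := by
  have hAi : PicF.IsInvertible A := hA.1
  have hnefX : Nakai.Nef k A := (Nakai.nef_iff_curveDeg k hAi).2 fun Z i _ _ hZ => by
    letI : Z.Over (Spec (CommRingCat.of k)) := ⟨i ≫ (X ↘ Spec (CommRingCat.of k))⟩
    haveI : IsProper (Z ↘ Spec (CommRingCat.of k)) :=
      inferInstanceAs (IsProper (i ≫ (X ↘ Spec (CommRingCat.of k))))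
    rw [Nakai.curveDeg_eq_deg k _ hZ (PicClLib.isInvertible_pullback i hAi)]
    exact (S18840.deg_pos_of_ample k hZ (AmpleDev.isAmple_pullback_finite k i hA)).le
  have ha : 0 ≤ Big.cdeg k ι ((Scheme.Modules.pullback f).obj A) :=
    (Big.nef_iff k (PicClLib.isInvertible_pullback f hAi)).1 (Nakai.Nef.pullback_proper k f hf hAi hnefX)
      C ι inferInstance hdim
  haveI : IsNoetherian X := CurveCohLib.isNoetherian_of_proper (k := k)
  haveI : IsNoetherian Y := CurveCohLib.isNoetherian_of_proper (k := k)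
  by_cases hmeet : ∃ c : C, f (ι c) = x
  · obtain ⟨c, hc⟩ := hmeet
    refine limit_ineq (w := (Big.cdeg k ι ((Scheme.Modules.pullback f).obj ω) : ℝ)) hε (by exact_mod_cast ha)
      (s₀ := s₀) fun s hs r hr => ?_
    have hAr := InvX.isInvertible_tensorPow hAi r
    have h := cdeg_ineq k f hx hE (InvX.isInvertible_tensorMod hAr hω) s (hjets s hs r hr) ι hdim c hc
    have hcl : PicF.cl ((Scheme.Modules.pullback f).obj (CohB1.tensorMod (CohB1.tensorPow A r) ω)) =
        PicF.cl (CohB1.tensorMod (CohB1.tensorPow ((Scheme.Modules.pullback f).obj A) r)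
          ((Scheme.Modules.pullback f).obj ω)) := by
      show PicF.pullCl f (PicF.cl (CohB1.tensorMod (CohB1.tensorPow A r) ω)) = _
      rw [cl_tensor, cl_tensor, cl_tensorPow, cl_tensorPow, pullCl_mul, pullCl_pow]
      rfl
    rw [Big.cdeg_congr k ι hcl, Big.cdeg_add k ι (hdim.trans Nat.cast_one.symm).le
      (InvX.isInvertible_tensorPow (PicClLib.isInvertible_pullback f hAi) r) (PicClLib.isInvertible_pullback f hω),
      cdeg_tensorPow k ι hdim (PicClLib.isInvertible_pullback f hAi)] at h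
    have h' : ((0 : ℚ) : ℝ) ≤ _ := Rat.cast_le.2 h
    push_cast at h'
    linarith
  · have h0 := cdeg_idealMod_disjoint k ι hdim hE fun c hc => hmeet ⟨c, by
      rw [← SetLike.mem_coe, Scheme.IdealSheafData.support_comap] at hc
      have hc' : f (ι c) ∈ (((W4c2seshadripos.pointIdeal x hx).support : Closeds X) : Set X) := hc
      rw [support_pointIdeal x hx, Set.mem_singleton_iff] at hc'
      exact hc'⟩
    rw [h0, Rat.cast_zero, mul_zero, add_zero]
    exact_mod_cast ha

end Groth.Agent.JetNef
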