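import Groth.Prelude.Def_W4c2seshadriposJets
import Groth.Agent.PowReg.IdealPow
import Groth.Agent.InvX.GenLocusPull
import Groth.Agent.InvX.Tensor
import Groth.Agent.BlowUpLib.Glue
import Groth.Agent.FlatStrat.Sheaf
import Groth.Agent.ModPairLib.BlowUp
import Groth.Agent.ModPairLib.Limit
import Groth.Agent.QCoh.Sections
import Groth.Agent.Big.Comap

/-!
# Sections with prescribed jets, and their lifts to powers of an exceptional ideal
-/

set_option autoImplicit false
set_option linter.style.haveILetI false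
set_option linter.unusedSectionVars false
set_option backward.isDefEq.respectTransparency false
set_option backward.isDefEq.respectTransparency.types false
set_option maxHeartbeats 800000

universe u

open CategoryTheory CategoryTheory.Limits AlgebraicGeometry TopologicalSpace Opposite
open Groth.Agent.AModX Groth.Agent.InvX

noncomputable section

namespace Groth.Agent.JetNef

open Groth.Agent

variable {X Y : Scheme.{u}}

theorem app_top_surjective_of_map {A B : X.Modules} (φ : A ⟶ B)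
    (h : Function.Surjective (Sheaf.H.map ((SheafOfModules.toSheaf X.ringCatSheaf).map φ) 0)) :
    Function.Surjective (φ.app ⊤) := fun z => by
  obtain ⟨w, hw⟩ := h ((Sheaf.H.equiv₀ ((SheafOfModules.toSheaf X.ringCatSheaf).obj B) isTerminalTop).symm z)
  refine ⟨Sheaf.H.equiv₀ ((SheafOfModules.toSheaf X.ringCatSheaf).obj A) isTerminalTop w, ?_⟩
  have h1 := Sheaf.H.equiv₀_naturality isTerminalTop ((SheafOfModules.toSheaf X.ringCatSheaf).map φ) w
  rw [hw, AddEquiv.apply_symm_apply] at h1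
  exact h1

theorem support_pointIdeal (x : X) (hx : IsClosed ({x} : Set X)) :
    ((W4c2seshadripos.pointIdeal x hx).support : Set X) = {x} := by
  rw [W4c2seshadripos.pointIdeal, Scheme.IdealSheafData.coe_support_vanishingIdeal]
  rfl

/-- A section with a prescribed `s`-jet. -/
theorem exists_section_jet {L : X.Modules} {x : X} (hx : IsClosed ({x} : Set X)) (s : ℕ)
    (hsep : W4c2seshadripos.SeparatesJets L x hx s) (V : X.affineOpens) (hxV : x ∈ V.1) {l : Γ(L, V.1)}
    (hl : IsFrame l) (b : Γ(X, V.1)) :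
    ∃ (σ : Γ(L, ⊤)) (a : Γ(X, V.1)), res L (le_top : V.1 ≤ ⊤) σ = a • l ∧
      a - b ∈ ((W4c2seshadripos.pointIdeal x hx) ^ (s + 1)).ideal V := by
  let I := (W4c2seshadripos.pointIdeal x hx) ^ (s + 1)
  let ι := I.subschemeι
  have hpre : ι ⁻¹ᵁ V.1 = ⊤ := eq_top_iff.2 fun z _ => by
    have hz : ι z ∈ Set.range I.subschemeι := ⟨z, rfl⟩
    rw [I.range_subschemeι, show I.support = (W4c2seshadripos.pointIdeal x hx).support from
      Scheme.IdealSheafData.support_pow_succ _ _, support_pointIdeal, Set.mem_singleton_iff] at hz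
    show ι z ∈ V.1
    rw [hz]
    exact hxV
  let P := (Scheme.Modules.pullback ι).obj L
  let y₀ : Γ(P, ι ⁻¹ᵁ V.1) := ι.app V.1 b • pullElt ι l
  have hsurj := app_top_surjective_of_map _ hsep
  obtain ⟨σ, hσ⟩ := hsurj (show Γ((Scheme.Modules.pushforward ι).obj P, ⊤) from
    res P (le_top.trans hpre.ge : ι ⁻¹ᵁ ⊤ ≤ ι ⁻¹ᵁ V.1) y₀)
  obtain ⟨a, ha⟩ := hl.exists_coord le_rfl (res L (le_top : V.1 ≤ ⊤) σ)
  rw [res_self] at ha
  refine ⟨σ, a, ha, ?_⟩
  have hσ' : pullElt ι σ = res P (le_top.trans hpre.ge : ι ⁻¹ᵁ ⊤ ≤ ι ⁻¹ᵁ V.1) y₀ := hσ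
  have h1 : pullElt ι (res L (le_top : V.1 ≤ ⊤) σ) = y₀ :=
    (res_pullElt ι (M := L) (le_top : V.1 ≤ ⊤) σ).symm.trans
      ((congrArg (res P (ι.preimage_mono (le_top : V.1 ≤ ⊤))) hσ').trans ((res_res _ _ _).trans (res_self _)))
  rw [ha, pullElt_smul] at h1
  have h2 : ι.app V.1 a = ι.app V.1 b :=
    (isFrame_pullElt ι hl).coord_unique le_rfl (by rw [res_self]; exact h1)
  show a - b ∈ I.ideal V
  rw [← I.ker_subschemeι, Scheme.Hom.ker_apply, RingHom.mem_ker, map_sub, sub_eq_zero]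
  exact h2

section Lift

variable [IsLocallyNoetherian Y] (J : Y.IdealSheafData) {P : Y.Modules} (hP : PicF.IsInvertible P)

include hP in
/-- A section lying locally in `J • P` comes from `J ⊗ P`. -/
theorem exists_lift (T : Γ(P, ⊤))
    (hloc : ∀ y : Y, ∃ (W : Y.affineOpens) (e : Γ(P, W.1)), y ∈ W.1 ∧ IsFrame e ∧
      ∃ a ∈ J.ideal W, res P (le_top : W.1 ≤ ⊤) T = a • e) :
    ∃ τ : Γ(CohB1.tensorMod (ClSub.idealMod J) P, ⊤), (PowReg.jMap J P).app ⊤ τ = T := by
  haveI := PowReg.mono_jMap J hP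
  choose W e hy he a ha hT using hloc
  have hex : ∀ y, ∃ t : Γ(CohB1.tensorMod (ClSub.idealMod J) P, (W y).1),
      (PowReg.jMap J P).app (W y).1 t = res P (le_top : (W y).1 ≤ ⊤) T := fun y =>
    ((PowReg.jMap_app_frame J (PowReg.isQCoh_idealMod J) (ZeroSchX.isQCoh_inv hP) (W y) (he y)).2 _).2
      ⟨a y, ha y, hT y⟩
  choose t ht using hex
  obtain ⟨τ, hτ, -⟩ := existsUnique_glue (M := CohB1.tensorMod (ClSub.idealMod J) P) (V := ⊤)
    (fun y : Y => (W y).1) (fun _ => le_top) (fun y _ => ⟨y, hy y⟩) t fun i j =>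
      QCoh.app_injective (PowReg.jMap J P) _ (by rw [app_res, app_res, ht, ht, res_res, res_res])
  refine ⟨τ, eq_of_locally _ _ fun y _ => ⟨(W y).1, le_top, hy y, ?_⟩⟩
  rw [← app_res, hτ y, ht]

include hP in
/-- The lifted section generates where the quotient by a local generator of `J` is a unit. -/
theorem mem_genLocus_lift (hJ : BlowUp.IsEffCartierIdeal J)
    (τ : Γ(CohB1.tensorMod (ClSub.idealMod J) P, ⊤)) (W : Y.affineOpens) {e : Γ(P, W.1)} (he : IsFrame e)
    {g u : Γ(Y, W.1)} (hg : J.ideal W = Ideal.span {g})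
    (hT : res P (le_top : W.1 ≤ ⊤) ((PowReg.jMap J P).app ⊤ τ) = (g * u) • e)
    {q : Y} (hq : q ∈ Y.basicOpen u) :
    q ∈ CohB1.genLocus (CohB1.tensorMod (ClSub.idealMod J) P) (InvX.ofSect τ) := by
  have hN : PicF.IsInvertible (CohB1.tensorMod (ClSub.idealMod J) P) :=
    InvX.isInvertible_tensorMod (Big.isInvertible_ideal hJ) hP
  obtain ⟨W', ε, hle, hqW, hε⟩ := PowReg.exists_affine_frame hN W.1 (Y.basicOpen_le u hq)
  obtain ⟨r, hr⟩ := hε.exists_coord le_rfl (res _ (le_top : W'.1 ≤ ⊤) τ)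
  rw [res_self] at hr
  have he' := he.res hle
  obtain ⟨b, hb, hbe⟩ := ((PowReg.jMap_app_frame J (PowReg.isQCoh_idealMod J) (ZeroSchX.isQCoh_inv hP) W' he').2
    ((PowReg.jMap J P).app W'.1 ε)).1 ⟨ε, rfl⟩
  have hg' : J.ideal W' = Ideal.span {resR hle g} := by
    rw [← J.map_ideal (U := W') (V := W) hle, hg, Ideal.map_span, Set.image_singleton]
    rfl
  rw [hg'] at hb
  obtain ⟨b', rfl⟩ := Ideal.mem_span_singleton'.1 hb
  have h1 : res P (le_top : W'.1 ≤ ⊤) ((PowReg.jMap J P).app ⊤ τ) = (r * (b' * resR hle g)) • res P hle e := by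
    rw [← app_res, hr, Scheme.Modules.Hom.app_smul, hbe]
    exact (mul_smul _ _ _).symm
  have h2 : res P (le_top : W'.1 ≤ ⊤) ((PowReg.jMap J P).app ⊤ τ) = (resR hle g * resR hle u) • res P hle e := by
    have := congrArg (res P hle) hT
    rw [res_res, res_smul, map_mul] at this
    exact this
  have h3 : r * (b' * resR hle g) = resR hle g * resR hle u := he.coord_unique hle (h1.symm.trans h2)
  have hnzd := ModPairLib.generator_mem_nonZeroDivisors hJ hg'
  have h4 : resR hle u = r * b' := by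
    refine sub_eq_zero.1 ((mem_nonZeroDivisors_iff_right.1 hnzd) _ ?_)
    rw [sub_mul, sub_eq_zero, mul_comm (resR hle u), ← h3, mul_assoc]
  have hq' : q ∈ Y.basicOpen (resR hle u) := by
    rw [show resR hle u = Y.presheaf.map (homOfLE hle).op u from rfl, Scheme.basicOpen_res]
    exact ⟨hqW, hq⟩
  rw [h4, Scheme.basicOpen_mul] at hq'
  have h5 : res _ (le_top : W'.1 ≤ ⊤) (one (InvX.ofSect τ)) = r • ε := by rw [InvX.one_ofSect, hr]
  have h6 := genLocus_inf (InvX.ofSect τ) hε h5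
  exact (h6.ge hq'.1).1

end Lift

end Groth.Agent.JetNef
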